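import Cfsg.Agent.H493.RatB.WitS
import Cfsg.Agent.H680.PBON
import Cfsg.Agent.H210.On7.Primes
import Cfsg.Agent.H710.R4.CharON

/-!
# S4891, the sporadic row `O'N` (helper315)

`p = 3, 7`: the rational character of degree 32395; the centralizers of the elements of prime order `≠ p` are not
divisible by `|O'N|_p = 3⁴, 7³`.
-/

set_option autoImplicit false

namespace Cfsg.Agent.H315.RatB.ON

open Cfsg Subgroup Cfsg.Agent.H493.RatB
open Cfsg.Spor (ON)
open Cfsg.Agent.KFacts.ON.Cent (finite_ON)
open Cfsg.Agent.H474.ONC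

universe u

theorem card_cent_conj {G : Type*} [Group G] (g y : G) :
    Nat.card (centralizer ({g * y * g⁻¹} : Set G)) = Nat.card (centralizer ({y} : Set G)) :=
  Cfsg.Agent.H690.Spor.ONRow.centralizer_conj g y

theorem card_cent_two {y : ON} (hy : orderOf y = 2) : Nat.card (centralizer ({y} : Set ON)) = 161280 := by
  obtain ⟨g, hg⟩ := Cfsg.Agent.CpAut.SporThree.ON.f_conj hy
  rw [← card_cent_conj g y, hg, Cfsg.Agent.KFacts.ON.Cent.card_cent]

theorem card_cent_three {y : ON} (hy : orderOf y = 3) : Nat.card (centralizer ({y} : Set ON)) = 3240 := by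
  obtain ⟨z, -, hz, hc⟩ := Cfsg.Agent.H210.On7.exists_three
  obtain ⟨g, hg⟩ := isConj_iff.1 (hz y hy)
  rw [← card_cent_conj g y, hg, hc]

theorem not_three_seven {y : ON} (hy : orderOf y = 7) : ¬ 3 ∣ Nat.card (centralizer ({y} : Set ON)) := by
  have hfin := finite_ON
  intro h
  obtain ⟨z, hz, hzy⟩ := exists_comm (x := y) Nat.prime_three h
  have h1 : y ∈ centralizer ({z} : Set ON) := mem_centralizer_singleton_iff.2 hzy.symm
  have h2 := orderOf_dvd_natCard (⟨y, h1⟩ : centralizer ({z} : Set ON))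
  rw [orderOf_mk, hy, card_cent_three hz] at h2
  norm_num at h2

theorem witR_model {p : ℕ} (hp : p = 3 ∨ p = 7) : WitR p ON := by
  have hfin := finite_ON
  obtain ⟨χ, h1, h2, h3⟩ := Cfsg.Agent.H710.R4.irr_ON
  have hdeg : charDegree χ = 32395 := Blocks.Basic.charDegree_of_eq h3
  have hne : χ ≠ fun _ => 1 := by
    intro h
    rw [h] at h3
    norm_num at h3
  have key : ∀ y : ON, (orderOf y).Prime → orderOf y = 2 ∨ orderOf y = 3 ∨ orderOf y = 5 ∨ orderOf y = 7 ∨
      orderOf y = 11 ∨ orderOf y = 19 ∨ orderOf y = 31 := fun y hy =>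
    H680.PBON.cases hy (by rw [← card_ON]; exact orderOf_dvd_natCard y)
  rcases hp with rfl | rfl
  · have : Fact (Nat.Prime 3) := ⟨by norm_num⟩
    refine witR_of_card (a := 4) (by rw [card_ON]; norm_num) (fun y hy h => ?_) ⟨χ, h1⟩ hne
      (by show ¬ 3 ∣ charDegree χ; rw [hdeg]; norm_num) h2
    rcases key y hy with h' | h' | h' | h' | h' | h' | h'
    · rw [card_cent_two h']; norm_num
    · exact absurd h' h
    · rw [card_cent_five h']; norm_num
    · exact fun h3 => not_three_seven h' ((by norm_num : 3 ∣ 3 ^ 4).trans h3)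
    · rw [card_cent_eleven h']; norm_num
    · rw [H680.ONThirtyOne.card_cent_nineteen h']; norm_num
    · rw [H680.ONThirtyOne.card_cent h']; norm_num
  · have : Fact (Nat.Prime 7) := ⟨by norm_num⟩
    refine witR_of_card (a := 3) (by rw [card_ON]; norm_num) (fun y hy h => ?_) ⟨χ, h1⟩ hne
      (by show ¬ 7 ∣ charDegree χ; rw [hdeg]; norm_num) h2
    rcases key y hy with h' | h' | h' | h' | h' | h' | h'
    · rw [card_cent_two h']; norm_num
    · rw [card_cent_three h']; norm_num
    · rw [card_cent_five h']; norm_num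
    · exact absurd h' h
    · rw [card_cent_eleven h']; norm_num
    · rw [H680.ONThirtyOne.card_cent_nineteen h']; norm_num
    · rw [H680.ONThirtyOne.card_cent h']; norm_num

theorem witR_on {S : Type u} [Group S] (h : Spor.IsoON S) {p : ℕ} (hp : p = 3 ∨ p = 7) : WitR p S := by
  obtain ⟨e⟩ := h
  have hfin := finite_ON
  have : Finite S := Finite.of_equiv _ e.symm.toEquiv
  have : Fact p.Prime := ⟨by rcases hp with rfl | rfl <;> norm_num⟩
  exact (witR_model hp).congr e

/-- **`p = 3`** -/
theorem witR_three {S : Type u} [Group S] (h : Spor.IsoON S) : WitR 3 S := witR_on h (Or.inl rfl)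

/-- **`p = 7`** -/
theorem witR_seven {S : Type u} [Group S] (h : Spor.IsoON S) : WitR 7 S := witR_on h (Or.inr rfl)

end Cfsg.Agent.H315.RatB.ON
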